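import Cfsg.Agent.Lib.Linear.TwoGen.Herm.Radical

/-!
# Hyperbolic frames of a unitary space: the monomial generator and the criterion
-/

set_option autoImplicit false
set_option linter.unusedSectionVars false

namespace Cfsg.Lib.Linear.TwoGen.Unitary

open Module Cfsg.Lib.Linear

variable {F V : Type*} [Field F] [Finite F] [AddCommGroup V] [Module F V] [FiniteDimensional F V]
  {σ : F →+* F} {B : V →ₛₗ[σ] V →ₗ[F] F} {K : ℕ}

/-- Hyperbolic pairs `v (inl i)`, `v (inr i)` and at most one further line. -/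
structure UFrame (B : V →ₛₗ[σ] V →ₗ[F] F) (k : ℕ) where
  v : Fin k ⊕ Fin k → V
  z : V
  pair : ∀ p r, B (v p) (v r) = if r = p.swap then 1 else 0
  vz : ∀ p, B (v p) z = 0
  span : ∀ x, (∀ p, B (v p) x = 0) → ∃ c : F, x = c • z

variable (C : Herm.Big.Space B) (Φ : UFrame B (K + 2))

/-- The part of a vector along the pairs. -/
def axPart (x : V) : V := ∑ p, B (Φ.v p.swap) x • Φ.v p

omit C in
theorem B_v_axPart (p : Fin (K + 2) ⊕ Fin (K + 2)) (x : V) : B (Φ.v p) (axPart Φ x) = B (Φ.v p) x := by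
  rw [axPart, map_sum, Finset.sum_eq_single p.swap]
  · rw [map_smul, Φ.pair, if_pos rfl, smul_eq_mul, mul_one, Sum.swap_swap]
  · intro b _ hb; rw [map_smul, Φ.pair, if_neg hb, smul_zero]
  · simp

omit C in
theorem B_v_rest (p : Fin (K + 2) ⊕ Fin (K + 2)) (x : V) : B (Φ.v p) (x - axPart Φ x) = 0 := by
  rw [map_sub, B_v_axPart, sub_self]

include C

/-- The map sending the frame along a permutation compatible with the pairing. -/
theorem exists_perm (π : Equiv.Perm (Fin (K + 2) ⊕ Fin (K + 2))) (hπ : ∀ p, π p.swap = (π p).swap) :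
    ∃ g ∈ Herm.iso B, (∀ p, g (Φ.v p) = Φ.v (π p)) ∧ g Φ.z = Φ.z := by
  let L : V →ₗ[F] V := LinearMap.id + ∑ p, (B (Φ.v p.swap)).smulRight (Φ.v (π p) - Φ.v p)
  have hL : ∀ x, L x = (x - axPart Φ x) + ∑ p, B (Φ.v p.swap) x • Φ.v (π p) := fun x => by
    simp only [L, LinearMap.add_apply, LinearMap.id_apply, LinearMap.sum_apply, LinearMap.smulRight_apply, smul_sub,
      Finset.sum_sub_distrib, axPart]
    abel
  have key : ∀ x, ∀ p, B (Φ.v p) (L x) = B (Φ.v (π.symm p)) x := fun x p => by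
    rw [hL, map_add, B_v_rest, zero_add, map_sum, Finset.sum_eq_single (π.symm p.swap)]
    · have : (π.symm p.swap).swap = π.symm p := by
        apply π.injective
        rw [hπ]; simp
      rw [map_smul, Φ.pair, Equiv.apply_symm_apply, if_pos rfl, smul_eq_mul, mul_one, this]
    · intro b _ hb
      rw [map_smul, Φ.pair, if_neg, smul_zero]
      intro h
      exact hb (by rw [← h, Equiv.symm_apply_apply])
    · simp
  obtain ⟨g, hg, -, hgL⟩ := Herm.Big.exists_equiv C L fun x y => by
    have hperm : ∀ y p, B (Φ.v p) (y - axPart Φ y) = 0 := fun y p => B_v_rest Φ p y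
    have hperp' : ∀ y p, B (y - axPart Φ y) (Φ.v p) = 0 := fun y p => Herm.Big.swap_zero C (B_v_rest Φ p y)
    have e : B x y = B (x - axPart Φ x) (y - axPart Φ y) +
        ∑ p, σ (B (Φ.v p.swap) x) * B (Φ.v p) y := by
      conv_lhs => rw [← sub_add_cancel x (axPart Φ x), map_add, LinearMap.add_apply]
      congr 1
      · conv_lhs => rw [← sub_add_cancel y (axPart Φ y), map_add]
        have : B (x - axPart Φ x) (axPart Φ y) = 0 := by
          rw [show axPart Φ y = ∑ p, B (Φ.v p.swap) y • Φ.v p from rfl, map_sum]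
          exact Finset.sum_eq_zero fun p _ => by rw [map_smul, hperp', smul_zero]
        rw [this, add_zero]
      · simp only [axPart, map_sum, LinearMap.sum_apply, LinearMap.map_smulₛₗ, LinearMap.smul_apply, smul_eq_mul]
    have e' : B (L x) (L y) = B (x - axPart Φ x) (y - axPart Φ y) +
        ∑ p, σ (B (Φ.v p.swap) x) * B (Φ.v (π p)) (L y) := by
      conv_lhs => rw [hL x, map_add, LinearMap.add_apply]
      congr 1
      · rw [hL, map_add, map_sum, Finset.sum_eq_zero fun p _ => by rw [map_smul, hperp', smul_zero], add_zero]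
      · simp only [map_sum, LinearMap.sum_apply, LinearMap.map_smulₛₗ, LinearMap.smul_apply, smul_eq_mul]
    rw [e, e']
    congr 1
    exact Finset.sum_congr rfl fun p _ => by rw [key, Equiv.symm_apply_apply]
  refine ⟨g, hg, fun p => ?_, ?_⟩
  · rw [hgL, hL]
    have : axPart Φ (Φ.v p) = Φ.v p := by
      rw [axPart, Finset.sum_eq_single p]
      · rw [Φ.pair, Sum.swap_swap, if_pos rfl, one_smul]
      · intro b _ hb; rw [Φ.pair, Sum.swap_swap, if_neg (Ne.symm hb), zero_smul]
      · simp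
    rw [this, sub_self, zero_add, Finset.sum_eq_single p]
    · rw [Φ.pair, Sum.swap_swap, if_pos rfl, one_smul]
    · intro b _ hb; rw [Φ.pair, Sum.swap_swap, if_neg (Ne.symm hb), zero_smul]
    · simp
  · rw [hgL, hL, axPart]
    simp [Φ.vz]

/-- The cyclic step. -/
def cycFun (K : ℕ) : Fin (K + 2) ⊕ Fin (K + 2) → Fin (K + 2) ⊕ Fin (K + 2)
  | .inl i => if h : (i : ℕ) + 1 < K + 2 then .inl ⟨i + 1, h⟩ else .inr 0
  | .inr i => if h : (i : ℕ) + 1 < K + 2 then .inr ⟨i + 1, h⟩ else .inl 0

omit C in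
theorem cycFun_swap (p : Fin (K + 2) ⊕ Fin (K + 2)) : cycFun K p.swap = (cycFun K p).swap := by
  rcases p with i | i <;> simp only [Sum.swap_inl, Sum.swap_inr, cycFun] <;> split_ifs <;> rfl

omit C in
theorem cycFun_injective : Function.Injective (cycFun K) := by
  intro p r h
  rcases p with i | i <;> rcases r with j | j <;> simp only [cycFun] at h <;> split_ifs at h with a b <;>
    simp only [Sum.inl.injEq, Sum.inr.injEq, reduceCtorEq, Fin.ext_iff, Fin.val_zero] at h ⊢ <;> omega

/-- The monomial generator, of determinant one. -/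
theorem exists_cycle : ∃ g ∈ Herm.tvGroup B, ∃ α μ : F, α ≠ 0 ∧ μ ≠ 0 ∧
    (∀ i : Fin (K + 1), g (Φ.v (.inl i.castSucc)) = Φ.v (.inl i.succ) ∧
      g (Φ.v (.inr i.castSucc)) = Φ.v (.inr i.succ)) ∧
    g (Φ.v (.inl (Fin.last _))) = α • Φ.v (.inr 0) ∧ g (Φ.v (.inr (Fin.last _))) = μ • Φ.v (.inl 0) ∧
    g Φ.z = Φ.z := by
  let π : Equiv.Perm (Fin (K + 2) ⊕ Fin (K + 2)) :=
    Equiv.ofBijective (cycFun K) ⟨cycFun_injective, Finite.surjective_of_injective cycFun_injective⟩
  obtain ⟨φ, hφ, hv, hz⟩ := exists_perm C Φ π (fun p => cycFun_swap p)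
  set dφ : F := ((LinearEquiv.det φ : Fˣ) : F)
  have hd := Herm.Big.det_norm C hφ
  set e := Φ.v (.inl (Fin.last (K + 1)))
  set f := Φ.v (.inr (Fin.last (K + 1)))
  have he : B e e = 0 := by rw [Φ.pair]; simp
  have hf : B f f = 0 := by rw [Φ.pair]; simp
  have hef : B e f = 1 := by rw [Φ.pair]; simp
  obtain ⟨D, hD, hDd, ⟨α, hα, hDe⟩, ⟨μ, hμ, hDf⟩, hfix⟩ := Herm.Big.exists_det_fix C he hf hef (z := σ dφ)
    (by rw [C.invol, mul_comm]; exact hd)
  refine ⟨φ * D, (Herm.Big.mem_tv C).2 ⟨mul_mem hφ hD, Units.ext ?_⟩, α, μ, hα, hμ, fun i => ?_, ?_, ?_, ?_⟩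
  · rw [map_mul, Units.val_mul, hDd, mul_comm]; exact hd
  · have hne : i.castSucc ≠ Fin.last (K + 1) := (Fin.castSucc_lt_last i).ne
    have hlt : (i.castSucc : ℕ) + 1 < K + 2 := by have := i.isLt; simp; omega
    constructor
    · rw [LinearEquiv.mul_apply, hfix _ (by rw [Φ.pair]; simp) (by rw [Φ.pair]; simp [hne]), hv]
      exact congrArg Φ.v (show cycFun K (.inl i.castSucc) = .inl i.succ by
        simp only [cycFun, dif_pos hlt]; rfl)
    · rw [LinearEquiv.mul_apply, hfix _ (by rw [Φ.pair]; simp [hne]) (by rw [Φ.pair]; simp), hv]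
      exact congrArg Φ.v (show cycFun K (.inr i.castSucc) = .inr i.succ by
        simp only [cycFun, dif_pos hlt]; rfl)
  · rw [LinearEquiv.mul_apply, hDe, map_smul, hv,
      show π (.inl (Fin.last (K + 1))) = .inr 0 from dif_neg (by simp)]
  · rw [LinearEquiv.mul_apply, hDf, map_smul, hv,
      show π (.inr (Fin.last (K + 1))) = .inl 0 from dif_neg (by simp)]
  · rw [LinearEquiv.mul_apply, hfix _ (Φ.vz _) (Φ.vz _), hz]

/-- An element of one pair with prescribed multiplier. -/
theorem exists_axis (i : Fin (K + 2)) {a : F} (ha : a ≠ 0) :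
    ∃ g ∈ Herm.iso B, (LinearEquiv.det g : F) = a * (σ a)⁻¹ ∧ g (Φ.v (.inl i)) = a • Φ.v (.inl i) ∧
      g (Φ.v (.inr i)) = (σ a)⁻¹ • Φ.v (.inr i) ∧
      ∀ x, B (Φ.v (.inl i)) x = 0 → B (Φ.v (.inr i)) x = 0 → g x = x := by
  set e := Φ.v (.inl i)
  set f := Φ.v (.inr i)
  have he : B e e = 0 := by rw [Φ.pair]; simp
  have hf : B f f = 0 := by rw [Φ.pair]; simp
  have hef : B e f = 1 := by rw [Φ.pair]; simp
  have hσa : σ a ≠ 0 := by simpa using ha
  set μ := (σ a)⁻¹ with hμ
  have h1 : σ a * μ = 1 := mul_inv_cancel₀ hσa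
  have h2 : σ μ * a = 1 := by rw [hμ, map_inv₀, C.invol, inv_mul_cancel₀ ha]
  have hfe := Herm.Big.swap_one C hef
  let L : V →ₗ[F] V := (LinearMap.transvection ((μ - 1) • B e) f).comp (LinearMap.transvection ((a - 1) • B f) e)
  have hL : ∀ x, L x = x + ((a - 1) * B f x) • e + ((μ - 1) * B e x) • f := fun x => by
    simp [L, LinearMap.transvection, he]
  obtain ⟨g, hg, hdet, hgL⟩ := Herm.Big.exists_equiv C L fun x y => by
    simp only [hL, map_add, map_smul, LinearMap.map_smulₛₗ, LinearMap.add_apply, LinearMap.smul_apply,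
      smul_eq_mul, map_mul, map_sub, map_one, C.symm.eq, he, hf, hef, hfe]
    linear_combination (B x f * B e y) * h1 + (B x e * B f y) * h2
  refine ⟨g, hg, ?_, ?_, ?_, fun x hx hx' => ?_⟩
  · rw [hdet]
    simp [L, LinearMap.det_comp, hef, hfe]
    ring
  · rw [hgL, hL, hfe, he]; module
  · rw [hgL, hL, hf, hef]; module
  · rw [hgL, hL, hx, hx']; module

variable {P : Subgroup (V ≃ₗ[F] V)}

/-- All directions at the centre `v (inl 0)` and a good opposite point give the whole group. -/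
theorem tv_le_of_centre (hP : P ≤ Herm.iso B) (he : SUThree.Good B P (Φ.v (.inl 0)))
    (hf : SUThree.Good B P (Φ.v (.inr 0))) (hA : ∀ a, B (Φ.v (.inl 0)) a = 0 → InA B P (Φ.v (.inl 0)) a) :
    Herm.tvGroup B ≤ P := by
  set e := Φ.v (.inl 0)
  set f := Φ.v (.inr 0)
  have hef : B e f = 1 := by rw [Φ.pair]; simp
  have hfe := Herm.Big.swap_one C hef
  have one : ∀ z, B z z = 0 → B e z ≠ 0 → SUThree.Good B P z := by
    intro z hz hez
    set z' := (B e z)⁻¹ • z with hz'
    have h1 : B e z' = 1 := by rw [hz', map_smul, smul_eq_mul, inv_mul_cancel₀ hez]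
    have h0 : B z' z' = 0 := by rw [hz']; simp [hz]
    set a := z' - f - B f z' • e with ha
    have hea : B e a = 0 := by rw [ha]; simp [h1, hef, he.1]
    have hfa : B f a = 0 := by rw [ha]; simp [hf.1, hfe]
    have hze : B z' e = 1 := Herm.Big.swap_one C h1
    have hl : Adm B e a (B f z') := by
      refine ⟨he.1, hea, ?_⟩
      rw [ha]
      simp only [map_sub, LinearMap.map_smulₛₗ, LinearMap.sub_apply, LinearMap.smul_apply, smul_eq_mul, map_smul, h0,
        hf.1, he.1, hef, hfe, h1, hze, ← C.symm.eq z' f, C.invol, RingHom.id_apply]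
      ring
    obtain ⟨g, -, hg⟩ := exists_isE C hl
    have hgP := mem_of_inA C he (hA a hea) hl hg
    have hgf : g f = z' := by
      rw [hg, hef, Herm.Big.swap_zero C hfa, ha]; module
    have := SUThree.good_smul C.invol (SUThree.good_map hP hgP hf) (B e z)
    rwa [hgf, hz', smul_smul, mul_inv_cancel₀ hez, one_smul] at this
  have two : ∀ z, B z z = 0 → B f z ≠ 0 → SUThree.Good B P z := by
    intro z hz hfz
    by_cases hez : B e z = 0
    · obtain ⟨d, hd0, hd⟩ := Herm.exists_trace_zero C.ne_id C.invol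
      have ht := hf.2 d (SUThree.cond_of_tr hf.1 hd)
      set g := Herm.qrefl f d (SUThree.cond_of_tr hf.1 hd)
      have hgz : B e (g z) ≠ 0 := by
        rw [show g z = z + (d * B f z) • f from rfl, map_add, hez, map_smul, hef, zero_add, smul_eq_mul, mul_one]
        exact mul_ne_zero hd0 hfz
      have := SUThree.good_map hP (inv_mem ht) (one (g z) (by rw [hP ht, hz]) hgz)
      rwa [show g⁻¹ (g z) = z from g.symm_apply_apply z] at this
    · exact one z hz hez
  rw [Herm.tvGroup, Subgroup.closure_le]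
  rintro _ ⟨z, l, h, hz, rfl⟩
  refine (?_ : SUThree.Good B P z).2 l h
  by_cases hez : B e z = 0
  · by_cases hfz : B f z = 0
    · rcases eq_or_ne z 0 with rfl | hz0
      · exact ⟨by simp, fun c hc => by
          rw [show Herm.qrefl (0 : V) c hc = 1 from LinearEquiv.ext fun x => by simp]
          exact one_mem P⟩
      obtain ⟨u, hu⟩ : ∃ u, B u z ≠ 0 := by
        by_contra hc
        push Not at hc
        exact hz0 (C.ndeg.1 z fun u => Herm.Big.swap_zero C (hc u))
      set a := u - B e u • f - B f u • e with ha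
      have hea : B e a = 0 := by rw [ha]; simp [hef, he.1]
      have haz : B a z ≠ 0 := by rw [ha]; simpa [hez, hfz] using hu
      obtain ⟨g, hg, l, -, hgE⟩ := hA a hea
      have hgz : B f (g z) ≠ 0 := by
        rw [hgE, hez]
        simp [hfz, hfe, haz]
      have := SUThree.good_map hP (inv_mem hg) (two (g z) (by rw [hP hg, hz]) hgz)
      rwa [show g⁻¹ (g z) = z from g.symm_apply_apply z] at this
    · exact two z hz hfz
  · exact one z hz hez

end Cfsg.Lib.Linear.TwoGen.Unitary
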