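import Cfsg.Agent.Lib.Linear.TwoGen.Herm.Frame

/-!
# Two generators of a special unitary group with at least two hyperbolic pairs

A transvection times a conjugated torus element, and the monomial cycle.
-/

set_option autoImplicit false
set_option linter.unusedSectionVars false

namespace Cfsg.Lib.Linear.TwoGen.Unitary

open Module Cfsg.Lib.Linear

variable {F V : Type*} [Field F] [Fintype F] [AddCommGroup V] [Module F V] [FiniteDimensional F V]
  {σ : F →+* F} {B : V →ₛₗ[σ] V →ₗ[F] F} {K : ℕ}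

/-- Additively closed sets stable under `r` through one trace zero element contain all of them. -/
def Spans (σ : F →+* F) (r : F) : Prop :=
  ∀ (A : AddSubgroup F) (δ : F), δ ≠ 0 → δ + σ δ = 0 → δ ∈ A → (∀ a ∈ A, r * a ∈ A) → ∀ d, d + σ d = 0 → d ∈ A

theorem qrefl_pow {u : V} (hu : B u u = 0) {d : F} (h : d + σ d + σ d * d * B u u = 0) (j : ℕ) (x : V) :
    (Herm.qrefl u d h ^ j) x = x + ((j : F) * d * B u x) • u := by
  induction j generalizing x with
  | zero => simp
  | succ j ih =>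
    rw [pow_succ, LinearEquiv.mul_apply, ih, Herm.qrefl_apply, map_add, map_smul, hu, smul_zero, add_zero,
      Nat.cast_succ]
    module

set_option maxHeartbeats 2000000 in
theorem two_gen (C : Herm.Big.Space B) (Φ : UFrame B (K + 2)) {ζ ρ : F} (hζ : σ ζ * ζ = 1) (hζn : σ ζ ≠ ζ)
    (hρ : σ ρ = ρ) (hρ0 : ρ ≠ 0) (hne1 : ρ * ζ ^ 2 ≠ 1) (hne2 : ζ ^ 2 ≠ ρ) (hQ : Spans σ (ρ * ρ))
    (hcase : σ (ζ ^ 2) ≠ ζ ^ 2 ∨ Spans σ (1 : F)) :
    ∃ a ∈ Herm.tvGroup B, ∃ b ∈ Herm.tvGroup B,
      Herm.tvGroup B ≤ Subgroup.closure ({a, b} : Set (V ≃ₗ[F] V)) := by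
  classical
  haveI : Finite F := Finite.of_fintype F
  have hiso := Herm.tvGroup_le_iso C.symm (B := B)
  obtain ⟨w, hwtv, α, μ, hα, hμ, hwstep, hwe, hwf, hwz⟩ := exists_cycle C Φ
  have hw := hiso hwtv
  have hζ0 : ζ ≠ 0 := right_ne_zero_of_mul_eq_one hζ
  have hσζ : σ ζ = ζ⁻¹ := eq_inv_of_mul_eq_one_left hζ
  have hζ1 : ζ - 1 ≠ 0 := sub_ne_zero.2 fun h => hζn (by rw [h, map_one])
  set γ := ρ * ζ⁻¹ with hγ
  have hγ0 : γ ≠ 0 := mul_ne_zero hρ0 (inv_ne_zero hζ0)
  have hσγ : σ γ = ρ * ζ := by rw [hγ, map_mul, hρ, map_inv₀, hσζ, inv_inv]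
  -- the diagonal element
  set i1 : Fin (K + 2) := (0 : Fin (K + 1)).succ with hi1
  have h10 : i1 ≠ 0 := Fin.succ_ne_zero _
  obtain ⟨h₀, h₀i, h₀d, h₀e, h₀f, h₀x⟩ := exists_axis C Φ 0 hζ0
  obtain ⟨h₁, h₁i, h₁d, h₁e, h₁f, h₁x⟩ := exists_axis C Φ i1 hγ0
  set h := h₀ * h₁ with hh
  have hhi : h ∈ Herm.iso B := mul_mem h₀i h₁i
  have hhd : LinearEquiv.det h = 1 := Units.ext (by
    rw [hh, map_mul, Units.val_mul, h₀d, h₁d, hσζ, hσγ, hγ, Units.val_one]
    field_simp)
  let ev : Fin (K + 2) ⊕ Fin (K + 2) → F := Sum.elim (fun i => if i = 0 then ζ else if i = i1 then γ else 1)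
    (fun i => if i = 0 then ζ else if i = i1 then ρ⁻¹ * ζ⁻¹ else 1)
  have hev0 : ∀ p, ev p ≠ 0 := by
    intro p
    rcases p with i | i <;> simp only [ev, Sum.elim_inl, Sum.elim_inr] <;> split_ifs <;>
      first | exact hζ0 | exact hγ0 | exact one_ne_zero | exact mul_ne_zero (inv_ne_zero hρ0) (inv_ne_zero hζ0)
  have hhv : ∀ p, h (Φ.v p) = ev p • Φ.v p := by
    intro p
    rw [hh, LinearEquiv.mul_apply]
    rcases p with i | i
    · rcases eq_or_ne i 0 with rfl | h0
      · rw [h₁x _ (by rw [Φ.pair]; simp) (by rw [Φ.pair]; simp [h10.symm]), h₀e]; simp [ev]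
      rcases eq_or_ne i i1 with rfl | h1
      · rw [h₁e, map_smul, h₀x _ (by rw [Φ.pair]; simp) (by rw [Φ.pair]; simp [h10])]; simp [ev, h10]
      · rw [h₁x _ (by rw [Φ.pair]; simp) (by rw [Φ.pair]; simp [h1]),
          h₀x _ (by rw [Φ.pair]; simp) (by rw [Φ.pair]; simp [h0])]
        simp [ev, h0, h1]
    · rcases eq_or_ne i 0 with rfl | h0
      · rw [h₁x _ (by rw [Φ.pair]; simp [h10.symm]) (by rw [Φ.pair]; simp), h₀f, hσζ, inv_inv]; simp [ev]
      rcases eq_or_ne i i1 with rfl | h1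
      · rw [h₁f, map_smul, h₀x _ (by rw [Φ.pair]; simp [h10]) (by rw [Φ.pair]; simp), hσγ, mul_inv]; simp [ev, h10]
      · rw [h₁x _ (by rw [Φ.pair]; simp [h1]) (by rw [Φ.pair]; simp),
          h₀x _ (by rw [Φ.pair]; simp [h0]) (by rw [Φ.pair]; simp)]
        simp [ev, h0, h1]
  have hhz : h Φ.z = Φ.z := by
    rw [hh, LinearEquiv.mul_apply, h₁x _ (Φ.vz _) (Φ.vz _), h₀x _ (Φ.vz _) (Φ.vz _)]
  have hdec : ∀ y, ∃ c : F, y = axPart Φ y + c • Φ.z := fun y => by
    obtain ⟨c, hc⟩ := Φ.span (y - axPart Φ y) fun p => B_v_rest Φ p y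
    exact ⟨c, by rw [← hc]; abel⟩
  set N := Fintype.card F - 1 with hN
  have hNp : (N : F) ≠ 0 := by
    rw [hN, Nat.cast_sub Fintype.card_pos, FiniteField.cast_card_eq_zero, Nat.cast_one, zero_sub]
    exact neg_ne_zero.2 one_ne_zero
  have hhN : h ^ N = 1 := by
    have k1 : ∀ (j : ℕ) p, (h ^ j) (Φ.v p) = ev p ^ j • Φ.v p := by
      intro j p
      induction j with
      | zero => simp
      | succ j ih => rw [pow_succ, LinearEquiv.mul_apply, hhv, map_smul, ih, smul_smul, pow_succ, mul_comm]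
    have k2 : ∀ j : ℕ, (h ^ j) Φ.z = Φ.z := by
      intro j
      induction j with
      | zero => simp
      | succ j ih => rw [pow_succ, LinearEquiv.mul_apply, hhz, ih]
    refine LinearEquiv.ext fun y => ?_
    obtain ⟨c, hc⟩ := hdec y
    rw [hc, map_add, map_smul, k2, axPart, map_sum]
    simp [k1, hN, FiniteField.pow_card_sub_one_eq_one _ (hev0 _)]
  -- the conjugating radical element
  set e := Φ.v (.inl 0) with he_def
  set f := Φ.v (.inr 0) with hf_def
  set il : Fin (K + 2) := Fin.last (K + 1) with hil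
  have hl0 : il ≠ 0 := by simp [hil, Fin.ext_iff]
  set νl := ev (.inr il) with hνl
  have hνζ : ∀ i, i ≠ 0 → ζ - ev (.inr i) ≠ 0 := by
    intro i hi
    simp only [ev, Sum.elim_inr, if_neg hi]
    split_ifs
    · intro h'
      refine hne1 ?_
      have := sub_eq_zero.1 h'
      field_simp at this
      linear_combination this
    · exact hζ1
  set sl := σ ((ζ - νl) / νl) with hsl
  set s₁ := σ (sl * μ) with hs₁
  have hs₁0 : s₁ ≠ 0 := by
    simp only [hs₁, hsl, ne_eq, map_eq_zero, mul_eq_zero, div_eq_zero_iff, not_or]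
    exact ⟨⟨hνζ il hl0, hev0 _⟩, hμ⟩
  obtain ⟨θ, hθ⟩ : ∃ θ : F, σ θ ≠ θ := ⟨ζ, hζn⟩
  have hθ0 : θ ≠ 0 := fun h' => hθ (by rw [h', map_zero])
  have hγζ : ζ - γ ≠ 0 := by
    intro h'
    refine hne2 ?_
    have := sub_eq_zero.1 h'
    rw [hγ] at this
    field_simp at this
    linear_combination this
  set c : F := if σ (ζ ^ 2) ≠ ζ ^ 2 then 0 else θ * s₁ / σ ((ζ - γ) / γ) with hc_def
  let co : Fin (K + 2) ⊕ Fin (K + 2) → F :=
    Sum.elim (fun i => if i = 0 then 0 else 1) (fun i => if i = 0 then 0 else if i = i1 then c else 1)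
  set x := (∑ p, co p • Φ.v p) + Φ.z with hx
  have hvx : ∀ p, B (Φ.v p) x = co p.swap := by
    intro p
    rw [hx, map_add, Φ.vz, add_zero, map_sum, Finset.sum_eq_single p.swap]
    · rw [map_smul, Φ.pair, if_pos rfl, smul_eq_mul, mul_one]
    · intro b _ hb; rw [map_smul, Φ.pair, if_neg hb, smul_zero]
    · simp
  have hxv : ∀ p, B x (Φ.v p) = σ (co p.swap) := fun p => by rw [← C.symm.eq, hvx]
  have hex : B e x = 0 := by rw [he_def, hvx]; simp [co]
  have hee : B e e = 0 := by rw [he_def, Φ.pair]; simp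
  have hff : B f f = 0 := by rw [hf_def, Φ.pair]; simp
  have hef : B e f = 1 := by rw [he_def, hf_def, Φ.pair]; simp
  have hxe := Herm.Big.swap_zero C hex
  obtain ⟨l₀, hl₀⟩ := Herm.exists_trace_eq C.ne_id C.invol (a := -(B x x))
    (by rw [map_neg, Herm.self_fixed C.symm])
  have hadm : Adm B e x l₀ := ⟨hee, hex, by rw [hl₀, neg_add_cancel]⟩
  obtain ⟨u, hutv, hu⟩ := exists_isE C hadm
  have hui := hiso hutv
  have hue : u e = e := by rw [hu, hee, hxe]; simp
  have huperp : ∀ y, B e y = 0 → u y = y - B x y • e := fun y hy => by rw [hu, hy]; module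
  have huinv : ∀ y, B e y = 0 → u⁻¹ y = y + B x y • e := fun y hy => by
    apply u.injective
    rw [show u (u⁻¹ y) = y from u.apply_symm_apply y, map_add, map_smul, hue, huperp y hy]
    module
  set l := u * h * u⁻¹ with hl
  have hli : l ∈ Herm.iso B := mul_mem (mul_mem hui hhi) (inv_mem hui)
  have hlap : ∀ y, l y = u (h (u⁻¹ y)) := fun y => rfl
  have hhe : h e = ζ • e := by rw [he_def, hhv]; simp [ev]
  have hle : l e = ζ • e := by
    rw [hlap, huinv e hee, hxe, zero_smul, add_zero, hhe, map_smul, hue]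
  have hlv : ∀ p, B e (Φ.v p) = 0 → l (Φ.v p) = ev p • Φ.v p + ((ζ - ev p) * B x (Φ.v p)) • e := by
    intro p hp
    rw [hlap, huinv _ hp, map_add, map_smul, hhv, hhe, map_add, map_smul, map_smul, map_smul, hue, huperp _ hp]
    module
  have hev2 : h ∈ Herm.tvGroup B := (Herm.Big.mem_tv C).2 ⟨hhi, hhd⟩
  have hltv : l ∈ Herm.tvGroup B := mul_mem (mul_mem hutv hev2) (inv_mem hutv)
  obtain ⟨δ, hδ0, hδ⟩ := Herm.exists_trace_zero C.ne_id C.invol
  set T := Herm.qrefl e δ (SUThree.cond_of_tr hee hδ) with hT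
  have hTtv : T ∈ Herm.tvGroup B := Subgroup.subset_closure ⟨e, δ, _, hee, rfl⟩
  refine ⟨T * l, mul_mem hTtv hltv, w, hwtv, ?_⟩
  set P := Subgroup.closure ({T * l, w} : Set (V ≃ₗ[F] V)) with hPdef
  have hP : P ≤ Herm.iso B := by
    rw [hPdef, Subgroup.closure_le]
    rintro g (rfl | rfl)
    exacts [hiso (mul_mem hTtv hltv), hw]
  have hwP : w ∈ P := Subgroup.subset_closure (Set.mem_insert_of_mem _ rfl)
  have hcomm : Commute T l := by
    refine LinearEquiv.ext fun y => ?_
    have h' := hli e y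
    rw [hle, LinearMap.map_smulₛₗ, LinearMap.smul_apply, smul_eq_mul] at h'
    show T (l y) = l (T y)
    rw [hT, Herm.qrefl_apply, Herm.qrefl_apply, map_add, map_smul, hle, ← h', smul_smul]
    congr 2
    linear_combination (-(δ * B e (l y))) * hζ
  have hTP : T ∈ P := by
    have e1 := pow_mem (show T * l ∈ P from Subgroup.subset_closure (Set.mem_insert _ _)) N
    rw [hcomm.mul_pow, hl, conj_pow, hhN, mul_one, mul_inv_cancel, mul_one] at e1
    obtain ⟨p, hp⟩ := CharP.exists F
    haveI := hp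
    haveI : Fact p.Prime := ⟨CharP.char_is_prime F p⟩
    have hNdvd : ¬ p ∣ N := fun h' => hNp ((CharP.cast_eq_zero_iff F p N).2 h')
    obtain ⟨j, -, hj⟩ := Nat.exists_mul_mod_eq_one_of_coprime
      ((Nat.Prime.coprime_iff_not_dvd (Fact.out (p := p.Prime))).2 hNdvd).symm (Fact.out (p := p.Prime)).one_lt
    have e2 := pow_mem e1 j
    rw [← pow_mul] at e2
    have h1 : ((N * j : ℕ) : F) = 1 := by
      rw [← Nat.mod_add_div (N * j) p, hj, Nat.cast_add, Nat.cast_mul, CharP.cast_eq_zero F p, zero_mul, add_zero,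
        Nat.cast_one]
    have h2 : T ^ (N * j) = T := LinearEquiv.ext fun y => by
      rw [hT, qrefl_pow hee, h1, one_mul, Herm.qrefl_apply]
    rwa [h2] at e2
  have hlP : l ∈ P := by
    have : l = T⁻¹ * (T * l) := by group
    rw [this]; exact mul_mem (inv_mem hTP) (Subgroup.subset_closure (Set.mem_insert _ _))
  -- good points
  set e1 := Φ.v (.inl i1) with he1
  have h00 : (0 : Fin (K + 2)) = (0 : Fin (K + 1)).castSucc := rfl
  have hwe0 : w e = e1 := by rw [he_def, h00, (hwstep 0).1]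
  have hwf0 : w f = Φ.v (.inr i1) := by rw [hf_def, h00, (hwstep 0).2]
  have hv1 : B e1 e1 = 0 := by rw [he1, Φ.pair]; simp
  have hgood1 : SUThree.Good B P e1 := by
    let A : AddSubgroup F :=
      { carrier := {d | ∃ hd : d + σ d + σ d * d * B e1 e1 = 0, Herm.qrefl e1 d hd ∈ P}
        add_mem' := fun {a b} ⟨ha, ha'⟩ ⟨hb, hb'⟩ => by
          refine ⟨?_, ?_⟩
          · rw [hv1, mul_zero, add_zero] at ha hb ⊢; rw [map_add]; linear_combination ha + hb
          · convert mul_mem ha' hb' using 1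
            refine LinearEquiv.ext fun y => ?_
            simp [hv1]
            module
        zero_mem' := ⟨by simp, by
          rw [show Herm.qrefl e1 (0 : F) _ = 1 from LinearEquiv.ext fun y => by simp]
          exact one_mem P⟩
        neg_mem' := fun {a} ⟨ha, ha'⟩ => by
          refine ⟨?_, ?_⟩
          · rw [hv1, mul_zero, add_zero] at ha ⊢; rw [map_neg]; linear_combination -ha
          · convert inv_mem ha' using 1
            refine eq_inv_of_mul_eq_one_left (LinearEquiv.ext fun y => ?_)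
            simp [hv1] }
    have hδA : δ ∈ A := by
      refine ⟨SUThree.cond_of_tr hv1 hδ, ?_⟩
      have h'' := mul_mem (mul_mem hwP hTP) (inv_mem hwP)
      rw [hT, SUThree.qrefl_map hw (SUThree.cond_of_tr hee hδ) (by rw [hwe0]; exact SUThree.cond_of_tr hv1 hδ)] at h''
      convert h'' using 2
      exact hwe0.symm
    suffices hall : ∀ d, d + σ d = 0 → d ∈ A from
      ⟨hv1, fun d hd => (hall d (SUThree.tr_of_cond hv1 hd)).2⟩
    by_cases h2 : σ (ζ ^ 2) ≠ ζ ^ 2
    · refine fun d hd => hQ A δ hδ0 hδ hδA (fun a ⟨ha, ha'⟩ => ?_) d hd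
      have hc0 : c = 0 := by rw [hc_def, if_pos h2]
      have hle1 : l e1 = γ • e1 := by
        rw [he1, hlv _ (by rw [he_def, Φ.pair]; simp), hxv]
        simp [co, ev, h10, hc0]
      have hσa : a + σ a = 0 := SUThree.tr_of_cond hv1 ha
      refine ⟨SUThree.cond_of_tr hv1 (by rw [map_mul, map_mul, hρ]; linear_combination (ρ * ρ) * hσa), ?_⟩
      have h'' := mul_mem (mul_mem hlP ha') (inv_mem hlP)
      rw [SUThree.qrefl_map hli ha (by rw [hle1]; simpa [hv1] using hσa)] at h''
      convert h'' using 1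
      refine LinearEquiv.ext fun y => ?_
      simp only [Herm.qrefl_apply, hle1, LinearMap.map_smulₛₗ, LinearMap.smul_apply, smul_eq_mul, smul_smul, hσγ]
      congr 2
      rw [hγ]
      field_simp
    · exact fun d hd => (hcase.resolve_left h2) A δ hδ0 hδ hδA (fun a ha => by rwa [one_mul]) d hd
  have hgoodE : ∀ i, SUThree.Good B P (Φ.v (.inl i)) := by
    intro i
    induction i using Fin.induction with
    | zero =>
      have h'' := SUThree.good_map hP (inv_mem hwP) hgood1
      rwa [show w⁻¹ e1 = e by rw [← hwe0]; exact w.symm_apply_apply e] at h''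
    | succ i ih =>
      have h'' := SUThree.good_map hP hwP ih
      rwa [(hwstep i).1] at h''
  have hgoodF : ∀ i, SUThree.Good B P (Φ.v (.inr i)) := by
    intro i
    induction i using Fin.induction with
    | zero =>
      have h'' := SUThree.good_smul C.invol (SUThree.good_map hP hwP (hgoodE il)) α⁻¹
      rwa [hwe, smul_smul, inv_mul_cancel₀ hα, one_smul] at h''
    | succ i ih =>
      have h'' := SUThree.good_map hP hwP ih
      rwa [(hwstep i).2] at h''
  have hgood : ∀ p, SUThree.Good B P (Φ.v p) := fun p => by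
    rcases p with i | i
    exacts [hgoodE i, hgoodF i]
  -- lines of directions at the centre `e`
  have hline : ∀ p, B e (Φ.v p) = 0 → ∀ d, d + σ d = 0 →
      InA B P e ((d * σ ((ζ - ev p) / ev p * B x (Φ.v p))) • Φ.v p) := by
    intro p hp d hd
    refine inA_of_good C (hgood _) (hgood p) hp ?_ hd
    have h'' := SUThree.good_smul C.invol (SUThree.good_map hP hlP (hgood p)) (ev p)⁻¹
    rw [hlv p hp, smul_add, smul_smul, smul_smul, inv_mul_cancel₀ (hev0 p), one_smul] at h''
    rwa [show (ζ - ev p) / ev p * B x (Φ.v p) = (ev p)⁻¹ * ((ζ - ev p) * B x (Φ.v p)) by ring]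
  have hstab : ∀ p, B e (Φ.v p) = 0 → ∀ s : F, InA B P e (s • Φ.v p) →
      InA B P e ((σ ζ * ev p * s) • Φ.v p) := by
    intro p hp s hs
    have h'' := hs.map hP hlP
    rw [hle, map_smul, hlv p hp] at h''
    have h3 := (h''.centre_smul C hζ0).add C (inA_self C hee (-(σ ζ * s * ((ζ - ev p) * B x (Φ.v p)))))
    convert h3 using 1
    module
  have hscaled : ∀ p, B e (Φ.v p) = 0 → σ (σ ζ * ev p) ≠ σ ζ * ev p →
      (ζ - ev p) * B x (Φ.v p) ≠ 0 → Full B P e (Φ.v p) := by
    intro p hp hmu hne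
    set s₀ := σ ((ζ - ev p) / ev p * B x (Φ.v p)) with hs₀
    have hs0 : s₀ ≠ 0 := by
      rw [hs₀, map_ne_zero, div_mul_eq_mul_div]
      exact div_ne_zero hne (hev0 p)
    refine full_of_two C hs0 (s₁ := σ ζ * ev p * s₀) ?_ (hline p hp) fun d hd => ?_
    · rwa [mul_div_assoc, div_self hs0, mul_one]
    · have h'' := hstab p hp _ (hline p hp d hd)
      rwa [show d * (σ ζ * ev p * s₀) = σ ζ * ev p * (d * s₀) by ring]
  have hperp : ∀ p, p ≠ Sum.inr 0 → B e (Φ.v p) = 0 := fun p hp => by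
    rw [he_def, Φ.pair, if_neg]
    simpa using hp
  have hσζn : σ (σ ζ) ≠ σ ζ := by rw [C.invol]; exact Ne.symm hζn
  have hxf : ∀ i, i ≠ 0 → B x (Φ.v (.inr i)) = 1 := fun i hi => by rw [hxv]; simp [co, hi]
  have hfullmid : ∀ i, i ≠ 0 → i ≠ i1 → Full B P e (Φ.v (.inl i)) ∧ Full B P e (Φ.v (.inr i)) := by
    intro i hi hi'
    refine ⟨hscaled _ (hperp _ (by simp)) ?_ ?_, hscaled _ (hperp _ (by simpa using hi)) ?_ ?_⟩
    · simpa [ev, hi, hi'] using hσζn
    · rw [hxv]; simpa [co, ev, hi, hi'] using hζ1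
    · simpa [ev, hi, hi'] using hσζn
    · rw [hxf i hi]; simpa [ev, hi, hi'] using hζ1
  -- moving a direction at `e` to the axis `i1`
  have htrans : ∀ s : F, InA B P e (s • Φ.v (.inr il)) → InA B P e ((-σ (s * μ)) • e1) := by
    intro s hs
    have h'' := hs.map hP hwP
    rw [hwe0, map_smul, hwf, smul_smul] at h''
    exact h''.symm C (by rw [he1]; exact hgood _) hee
  -- the directions `e1`, `f1`
  have hf1ofe : Full B P e (Φ.v (.inl il)) → Full B P e (Φ.v (.inr i1)) := by
    intro hfull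
    have h1 : Full B P e1 f := by
      have h'' := hfull.map hP hwP
      rw [hwe0, hwe] at h''
      exact h''.of_smul hα
    have key : ∀ i : Fin (K + 1), Full B P (Φ.v (.inr i.castSucc)) (Φ.v (.inl i.succ)) := by
      intro i
      induction i using Fin.induction with
      | zero => exact (h1.symm C (hgood _) hff)
      | succ i ih =>
        have h'' := ih.map hP hwP
        rwa [(hwstep i.castSucc).2, Fin.succ_castSucc, (hwstep i.succ).1] at h''
    have h2 := (key (Fin.last K)).map hP hwP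
    rw [(hwstep _).2, Fin.succ_last, hwe] at h2
    have h3 := (h2.of_smul hα).map hP hwP
    rw [hwf, hwf0] at h3
    exact h3.of_smul_centre C hμ
  have hlast : Full B P e (Φ.v (.inr il)) → Full B P e e1 := fun hfull s => by
    have h'' := htrans (-σ s / μ) (hfull _)
    rwa [div_mul_cancel₀ _ hμ, map_neg, neg_neg, C.invol] at h''
  have hE1F1 : Full B P e e1 ∧ Full B P e (Φ.v (.inr i1)) := by
    by_cases h2 : σ (ζ ^ 2) ≠ ζ ^ 2
    · have hf1 : Full B P e (Φ.v (.inr i1)) := by
        refine hscaled _ (hperp _ (by simpa using h10)) ?_ ?_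
        · simp only [ev, Sum.elim_inr, if_neg h10, if_pos]
          simp only [map_mul, map_inv₀, hρ, hσζ]
          intro h'
          apply h2
          rw [map_pow, hσζ]
          field_simp at h' ⊢
          linear_combination -h'
        · rw [hxf _ h10, mul_one]; exact hνζ _ h10
      refine ⟨hlast ?_, hf1⟩
      rcases eq_or_ne il i1 with e' | e'
      · rw [e']; exact hf1
      · exact (hfullmid il hl0 e').2
    · have hfe : Full B P e e1 := by
        refine full_of_two C hs₁0 (s₁ := θ * s₁) (by rwa [mul_div_assoc, div_self hs₁0, mul_one]) (fun d hd => ?_)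
          (fun d hd => ?_)
        · have h'' := htrans _ (hline (.inr il) (hperp _ (by simpa using hl0)) d hd)
          rw [hxf il hl0, mul_one, ← hνl, ← hsl] at h''
          convert h'' using 2
          rw [hs₁, mul_assoc, map_mul σ d, show σ d = -d by linear_combination hd]
          ring
        · have h'' := hline (.inl i1) (hperp _ (by simp)) d hd
          convert h'' using 2
          rw [hxv]
          have hcv : c = θ * s₁ / σ ((ζ - γ) / γ) := by rw [hc_def, if_neg h2]
          have hne' : σ ((ζ - γ) / γ) ≠ 0 := (map_ne_zero σ).2 (div_ne_zero hγζ hγ0)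
          simp only [co, ev, Sum.elim_inl, Sum.swap_inl, Sum.elim_inr, if_neg h10, if_pos]
          rw [map_mul σ _ (σ c), C.invol, hcv, mul_div_cancel₀ _ hne']
      refine ⟨hfe, hf1ofe ?_⟩
      rcases eq_or_ne il i1 with e' | e'
      · rw [e']; exact hfe
      · exact (hfullmid il hl0 e').1
  have hfull : ∀ p, p ≠ Sum.inr 0 → Full B P e (Φ.v p) := by
    intro p hp
    rcases p with i | i
    · rcases eq_or_ne i 0 with rfl | hi
      · exact fun s => inA_self C hee s
      rcases eq_or_ne i i1 with rfl | hi'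
      · exact hE1F1.1
      · exact (hfullmid i hi hi').1
    · have hi : i ≠ 0 := by simpa using hp
      rcases eq_or_ne i i1 with rfl | hi'
      · exact hE1F1.2
      · exact (hfullmid i hi hi').2
  have hax : ∀ a, B e a = 0 → InA B P e (axPart Φ a) := by
    intro a ha
    refine Finset.sum_induction _ (fun b => InA B P e b) (fun b c hb hc => hb.add C hc) (inA_zero C hee) ?_
    intro p _
    rcases eq_or_ne p (.inr 0) with rfl | hp
    · rw [show B (Φ.v (Sum.inr 0 : Fin (K + 2) ⊕ Fin (K + 2)).swap) a = 0 from ha, zero_smul]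
      exact inA_zero C hee
    · exact hfull p hp _
  have hzz : Φ.z ≠ 0 → B Φ.z Φ.z ≠ 0 := by
    intro hz0 hzz
    refine hz0 (C.ndeg.1 _ fun y => ?_)
    obtain ⟨c', hc'⟩ := hdec y
    rw [hc', map_add, map_smul, hzz, smul_zero, add_zero, axPart, map_sum]
    exact Finset.sum_eq_zero fun p _ => by rw [map_smul, Herm.Big.swap_zero C (Φ.vz p), smul_zero]
  -- the further line
  have hzfull : Full B P e Φ.z := by
    rcases eq_or_ne Φ.z 0 with hz0 | hz0
    · intro s; rw [hz0, smul_zero]; exact inA_zero C hee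
    have hg1 : Full B P f e1 := by
      have h'' := (hfull (.inl il) (by simp)).map hP hwP
      rw [hwe0, hwe] at h''
      exact (h''.of_smul hα).symm C (by rw [he1]; exact hgood _) hff
    set t := -(μ⁻¹ * (ζ - νl)) / νl with ht
    have hadm' : Adm B f (t • e1) 0 := ⟨hff, by rw [map_smul, he1, hf_def, Φ.pair]; simp [h10],
      by simp [hv1]⟩
    obtain ⟨g, -, hg⟩ := exists_isE C hadm'
    have hgP := mem_of_inA C (hgood _) (hg1 t) hadm' hg
    have hge : g e = e + t • e1 := by
      rw [hg, Herm.Big.swap_one C hef]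
      simp only [LinearMap.map_smulₛₗ, LinearMap.smul_apply, smul_eq_mul, he1, he_def, Φ.pair]
      simp
    have hge1 : g e1 = e1 := by
      rw [hg]
      simp [hv1, show B f e1 = 0 by rw [hf_def, he1, Φ.pair]; simp [h10]]
    have hgz : g Φ.z = Φ.z := by
      rw [hg]
      simp [he1, hf_def, Φ.vz]
    set m := g * w * l * w⁻¹ with hm
    have hmP : m ∈ P := mul_mem (mul_mem (mul_mem hgP hwP) hlP) (inv_mem hwP)
    have hme : m e = νl • e := by
      have hwi : w⁻¹ e = μ⁻¹ • Φ.v (.inr il) := by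
        apply w.injective
        rw [show w (w⁻¹ e) = e from w.apply_symm_apply e, map_smul, hwf, smul_smul, inv_mul_cancel₀ hμ, one_smul]
      show g (w (l (w⁻¹ e))) = _
      rw [hwi, map_smul, hlv _ (hperp _ (by simpa using hl0)), hxf il hl0, mul_one, ← hνl]
      simp only [map_smul, map_add, hwf, hwe0, hge, hge1, ← he_def, smul_add, smul_smul]
      have hν : νl ≠ 0 := hev0 _
      rw [ht]
      match_scalars <;> field_simp <;> ring
    have hb : B Φ.z (m (Φ.v (.inr i1))) ≠ 0 := by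
      have hwi : w⁻¹ (Φ.v (.inr i1)) = f := by rw [← hwf0]; exact w.symm_apply_apply f
      show B Φ.z (g (w (l (w⁻¹ (Φ.v (.inr i1)))))) ≠ 0
      rw [hwi]
      rw [show B Φ.z (g (w (l f))) = B Φ.z (l f) by
        conv_lhs => arg 1; arg 2; rw [← hgz, ← hwz]
        rw [hP hgP, hw]]
      have a1 : B e Φ.z = 0 := Φ.vz _
      have a2 : B x Φ.z = B Φ.z Φ.z := by
        rw [hx, map_add, LinearMap.add_apply, map_sum, LinearMap.sum_apply,
          Finset.sum_eq_zero fun p _ => by rw [LinearMap.map_smulₛₗ, LinearMap.smul_apply, Φ.vz, smul_zero], zero_add]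
      rw [hlap]
      have b1 : ∀ y, B Φ.z (u y) = B Φ.z y + B Φ.z Φ.z * B e y := fun y => by
        have h'' := hui (u⁻¹ Φ.z) y
        rw [show u (u⁻¹ Φ.z) = Φ.z from u.apply_symm_apply _, huinv _ a1, a2] at h''
        rw [h'', map_add, LinearMap.add_apply, LinearMap.map_smulₛₗ, LinearMap.smul_apply, smul_eq_mul,
          Herm.self_fixed C.symm]
      have b2 : ∀ y, B Φ.z (h y) = B Φ.z y := fun y => by
        conv_lhs => rw [← hhz]
        exact hhi _ _
      have b3 : ∀ y, B e (h y) = ζ * B e y := fun y => by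
        have h'' := hhi e y
        rw [hhe, LinearMap.map_smulₛₗ, LinearMap.smul_apply, smul_eq_mul] at h''
        linear_combination ζ * h'' - B e (h y) * hζ
      have b4 : B e (u⁻¹ f) = 1 := by
        have h'' := hui e (u⁻¹ f)
        rw [hue, show u (u⁻¹ f) = f from u.apply_symm_apply _, hef] at h''
        exact h''.symm
      have b5 : B Φ.z (u⁻¹ f) = -(B Φ.z Φ.z) := by
        have h'' := b1 (u⁻¹ f)
        rw [show u (u⁻¹ f) = f from u.apply_symm_apply _, b4, mul_one,
          show B Φ.z f = 0 from Herm.Big.swap_zero C (Φ.vz _)] at h''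
        linear_combination -h''
      rw [b1, b2, b3, b4, b5, mul_one, ← sub_eq_neg_add, ← mul_sub_one]
      exact mul_ne_zero (hzz hz0) hζ1
    intro s
    set η := σ νl * B Φ.z (m (Φ.v (.inr i1))) / B Φ.z Φ.z with hη
    have hν0 : σ νl ≠ 0 := by simp [hνl, hev0]
    have hη0 : η ≠ 0 := div_ne_zero (mul_ne_zero hν0 hb) (hzz hz0)
    have h'' := ((hE1F1.2 (s / η)).map hP hmP)
    rw [hme] at h''
    have h3 := h''.centre_smul C (hev0 _)
    set a := σ νl • m ((s / η) • Φ.v (.inr i1)) with ha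
    have hea : B e a = 0 := by
      obtain ⟨g', -, l', hl', -⟩ := h3
      exact hl'.2.1
    obtain ⟨c', hc'⟩ := hdec a
    have h4 := h3.add C (InA.neg C (hax a hea))
    rw [show a + -axPart Φ a = c' • Φ.z by nth_rw 1 [hc']; abel] at h4
    have hcs : c' = s := by
      have h5 := congrArg (fun y => B Φ.z y) hc'
      have h6 : B Φ.z (axPart Φ a) = 0 := by
        rw [axPart, map_sum]
        exact Finset.sum_eq_zero fun p _ => by rw [map_smul, Herm.Big.swap_zero C (Φ.vz p), smul_zero]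
      simp only [map_add, map_smul, h6, zero_add, smul_eq_mul] at h5
      rw [ha, map_smul, map_smul, map_smul, smul_eq_mul, smul_eq_mul] at h5
      have h7 : η * B Φ.z Φ.z = σ νl * B Φ.z (m (Φ.v (.inr i1))) := div_mul_cancel₀ _ (hzz hz0)
      refine mul_right_cancel₀ (hzz hz0) (mul_left_cancel₀ hη0 ?_)
      have h8 : s / η * η = s := div_mul_cancel₀ _ hη0
      linear_combination (-η) * h5 - (s / η * η) * h7 + η * (B Φ.z Φ.z) * h8
    rwa [hcs] at h4
  refine tv_le_of_centre C Φ hP (hgood _) (hgood _) fun a ha => ?_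
  obtain ⟨c', hc'⟩ := hdec a
  rw [hc']
  exact (hax a ha).add C (hzfull c')

end Cfsg.Lib.Linear.TwoGen.Unitary
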