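import Cfsg.Agent.Lib.Linear.TwoGen.Herm.Gen
import Cfsg.Agent.Lib.Linear.TwoGen.Orth.Main
import Cfsg.Agent.Lib.Linear.HermParabolic
import Cfsg.Agent.Lib.Linear.HermLines
import Cfsg.Agent.Lib.Linear.PSUSimple

/-!
# Parameters and frames for the standard unitary space
-/

set_option autoImplicit false
set_option linter.unusedSectionVars false

namespace Cfsg.Lib.Linear.TwoGen.Unitary

open Module Cfsg.Lib.Linear Cfsg.Lib.Linear.Herm

variable {F : Type*} [Field F] [Fintype F] {q : ℕ}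

/-- The fixed field. -/
noncomputable def fixField (hF : Fintype.card F = q ^ 2) : Subfield F :=
  RingHom.eqLocusField (frob hF) (RingHom.id F)

theorem mem_fixField {hF : Fintype.card F = q ^ 2} {a : F} : a ∈ fixField hF ↔ frob hF a = a := Iff.rfl

theorem card_fixField (hF : Fintype.card F = q ^ 2) : Nat.card ↥(fixField hF) = q := by
  exact (Nat.card_congr (Equiv.subtypeEquivRight fun a => by rw [mem_fixField, frob_apply hF])).trans
    (Herm.card_fixed hF)

theorem spans_of_gen (hF : Fintype.card F = q ^ 2) (r : ↥(fixField hF))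
    (h : Subfield.closure ({r} : Set ↥(fixField hF)) = ⊤) : Spans (frob hF) (r : F) := by
  classical
  intro A δ hδ0 hδ hδA hstab d hd
  let A' : AddSubgroup ↥(fixField hF) := A.comap
    ((AddMonoidHom.mulRight δ).comp (fixField hF).subtype.toAddMonoidHom)
  have hmem : d / δ ∈ fixField hF := by
    rw [mem_fixField, map_div₀, show frob hF d = -d by linear_combination hd,
      show frob hF δ = -δ by linear_combination hδ, neg_div_neg_eq]
  have := mem_of_scaled (A := A') h (show ((1 : ↥(fixField hF)) : F) * δ ∈ A by simpa using hδA)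
    (fun a ha => show ((r * a : ↥(fixField hF)) : F) * δ ∈ A by
      simpa [mul_assoc] using hstab _ (show (a : F) * δ ∈ A from ha)) ⟨d / δ, hmem⟩
  have h' : d / δ * δ ∈ A := this
  rwa [div_mul_cancel₀ _ hδ0] at h'

theorem exists_params (hF : Fintype.card F = q ^ 2) :
    ∃ ζ ρ : F, frob hF ζ * ζ = 1 ∧ frob hF ζ ≠ ζ ∧ frob hF ρ = ρ ∧ ρ ≠ 0 ∧ ρ * ζ ^ 2 ≠ 1 ∧ ζ ^ 2 ≠ ρ ∧
      Spans (frob hF) (ρ * ρ) ∧ (frob hF (ζ ^ 2) ≠ ζ ^ 2 ∨ Spans (frob hF) (1 : F)) := by
  classical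
  have hq := two_le_q hF
  obtain ⟨g, hg⟩ := IsCyclic.exists_ofOrder_eq_natCard (α := Fˣ)
  rw [card_units_sq hF] at hg
  set z := g ^ (q - 1) with hz
  have hzo : orderOf z = q + 1 := by
    rw [hz, orderOf_pow' _ (by omega), hg, Nat.gcd_mul_left_left, Nat.mul_div_cancel _ (by omega)]
  set r := g ^ (q + 1) with hr
  have hro : orderOf r = q - 1 := by
    rw [hr, orderOf_pow' _ (by omega), hg, Nat.gcd_mul_right_left, Nat.mul_div_cancel_left _ (by omega)]
  have hζ : frob hF (z : F) * (z : F) = 1 := by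
    rw [frob_apply hF, ← pow_succ, ← Units.val_pow_eq_pow_val, ← hzo, pow_orderOf_eq_one, Units.val_one]
  have hzpow : ∀ k, 0 < k → k < q + 1 → (z : F) ^ k ≠ 1 := fun k h1 h2 h => by
    have h' : z ^ k = 1 := Units.ext (by rw [Units.val_pow_eq_pow_val, h, Units.val_one])
    have := Nat.le_of_dvd h1 (orderOf_dvd_of_pow_eq_one h')
    omega
  have hζinv : frob hF (z : F) = (z : F)⁻¹ := eq_inv_of_mul_eq_one_left hζ
  have hζn : frob hF (z : F) ≠ z := fun h => hzpow 2 two_pos (by omega) (by rw [h] at hζ; rw [sq]; exact hζ)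
  have h4 : ∀ ρ : F, frob hF ρ = ρ → (ρ * (z : F) ^ 2 = 1 ∨ (z : F) ^ 2 = ρ) → q = 3 ∧ (z : F) ^ 4 = 1 := by
    intro ρ hρ h
    have e : frob hF ((z : F) ^ 2) = (z : F) ^ 2 := by
      rcases h with h | h
      · have h' := congrArg (frob hF) h
        rw [map_mul, hρ, map_one, ← h] at h'
        exact mul_left_cancel₀ (fun h0 => by rw [h0, zero_mul] at h; exact zero_ne_one h) h'
      · rw [h, hρ]
    rw [map_pow, hζinv, inv_pow] at e
    have e' : (z : F) ^ 4 = 1 := by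
      have h0 : (z : F) ^ 2 ≠ 0 := pow_ne_zero _ z.ne_zero
      field_simp at e
      linear_combination -e
    refine ⟨?_, e'⟩
    have hdvd : orderOf z ∣ 4 := orderOf_dvd_of_pow_eq_one (Units.ext (by simpa using e'))
    rw [hzo] at hdvd
    have := Nat.le_of_dvd (by norm_num) hdvd
    rcases (show q = 2 ∨ q = 3 by omega) with rfl | rfl
    · norm_num at hdvd
    · rfl
  have hρfix : frob hF (r : F) = r := by
    rw [frob_apply hF, hr, Units.val_pow_eq_pow_val, norm_pow_q hF]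
  have hone : q ≤ 3 → Spans (frob hF) (1 : F) := fun h3 => by
    have := spans_of_gen hF 1 (closure_one_top (by
      rw [← Nat.card_eq_fintype_card, card_fixField]; exact h3))
    simpa using this
  have hcase : frob hF ((z : F) ^ 2) ≠ (z : F) ^ 2 ∨ Spans (frob hF) (1 : F) := by
    refine (em _).imp_right fun h => hone ?_
    push Not at h
    exact (h4 ((z : F) ^ 2) h (Or.inr rfl)).1.le
  by_cases h3 : q ≤ 3
  · have hne : ((z : F) ^ 2 ≠ 1) := hzpow 2 two_pos (by omega)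
    refine ⟨z, 1, hζ, hζn, map_one _, one_ne_zero, by rwa [one_mul], hne, by rw [one_mul]; exact hone h3, hcase⟩
  · refine ⟨z, r, hζ, hζn, hρfix, r.ne_zero, fun h => h3 (h4 _ hρfix (Or.inl h)).1.le,
      fun h => h3 (h4 _ hρfix (Or.inr h)).1.le, ?_, hcase⟩
    let r' : (↥(fixField hF))ˣ := Units.mk0 ⟨(r : F), hρfix⟩ (fun h => r.ne_zero (congrArg Subtype.val h))
    have hr' : orderOf r' = Fintype.card ↥(fixField hF) - 1 := by
      rw [← Nat.card_eq_fintype_card, card_fixField, ← hro,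
        ← orderOf_injective (Units.map ((fixField hF).subtype : ↥(fixField hF) →* F)) (fun a b h => Units.ext
          (Subtype.ext (congrArg Units.val h))) r']
      congr 1
      exact Units.ext rfl
    have := spans_of_gen hF ((r' : ↥(fixField hF)) ^ 2) (closure_sq_top hr')
    simpa [r', sq] using this

/-- Vectors of a frame, by coordinates `2i`, `2i+1`. -/
noncomputable def stdV {n k : ℕ} (hn : 2 * k ≤ n) (c ζ : F) : Fin k ⊕ Fin k → (Fin n → F) :=
  Sum.elim (fun i => Pi.single ⟨2 * i, by omega⟩ 1 + Pi.single ⟨2 * i + 1, by omega⟩ c)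
    (fun i => (1 - ζ)⁻¹ • (Pi.single ⟨2 * i, by omega⟩ 1 + Pi.single ⟨2 * i + 1, by omega⟩ (c * ζ)))

theorem exists_frame_std (hF : Fintype.card F = q ^ 2) {n K : ℕ} (hn : n = 2 * (K + 2) ∨ n = 2 * (K + 2) + 1)
    {ζ : F} (hζ : frob hF ζ * ζ = 1) (hζn : frob hF ζ ≠ ζ) : Nonempty (UFrame (hB hF n) (K + 2)) := by
  classical
  obtain ⟨c, hc⟩ := exists_neg_one_norm hF
  have hq := two_le_q hF
  have hn' : 2 * (K + 2) ≤ n := by omega
  have hc0 : c ≠ 0 := fun h => by rw [h, mul_zero] at hc; exact neg_ne_zero.2 one_ne_zero hc.symm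
  have hζ1 : 1 - ζ ≠ 0 := sub_ne_zero.2 fun h => hζn (by rw [← h, map_one])
  have hζq : ζ ^ q * ζ = 1 := by rw [← frob_apply hF]; exact hζ
  have hcomp : ∀ (a : Fin n → F) (i : Fin n) (t : F), hB hF n a (Pi.single i t) = t * a i ^ q :=
    fun a i t => hB_single_right hF n a i t
  have hval : ∀ p (j : Fin n), stdV hn' c ζ p j =
      Sum.elim (fun i : Fin (K + 2) => if (j : ℕ) = 2 * i then 1 else if (j : ℕ) = 2 * i + 1 then c else 0)
        (fun i : Fin (K + 2) => if (j : ℕ) = 2 * i then (1 - ζ)⁻¹ else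
          if (j : ℕ) = 2 * i + 1 then (1 - ζ)⁻¹ * (c * ζ) else 0) p := by
    intro p j
    rcases p with i | i <;>
      simp only [stdV, Sum.elim_inl, Sum.elim_inr, Pi.add_apply, Pi.smul_apply, Pi.single_apply, smul_eq_mul,
        Fin.ext_iff] <;> split_ifs <;> (try omega) <;> simp
  have hθ : ((1 - ζ)⁻¹) ^ q = (1 - ζ⁻¹)⁻¹ := by
    rw [← frob_apply hF, map_inv₀, map_sub, map_one, eq_inv_of_mul_eq_one_left hζ]
  have hζ0 : ζ ≠ 0 := right_ne_zero_of_mul_eq_one hζ
  have hζ1' : 1 - ζ⁻¹ ≠ 0 := fun h => hζ1 (by field_simp at h; linear_combination -h)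
  have hcq : c ^ q * c = -1 := hc
  have hζi : ζ ^ q = ζ⁻¹ := eq_inv_of_mul_eq_one_left hζq
  have e0 : ∀ i : Fin (K + 2), (2 * (i : ℕ)) < n := fun i => by have := i.isLt; omega
  have e1 : ∀ i : Fin (K + 2), (2 * (i : ℕ) + 1) < n := fun i => by have := i.isLt; omega
  have hBl : ∀ (a : Fin n → F) (i : Fin (K + 2)),
      hB hF n a (stdV hn' c ζ (.inl i)) = a ⟨2 * i, e0 i⟩ ^ q + c * a ⟨2 * i + 1, e1 i⟩ ^ q := by
    intro a i
    simp only [stdV, Sum.elim_inl, map_add, hcomp]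
    ring
  have hBr : ∀ (a : Fin n → F) (i : Fin (K + 2)), hB hF n a (stdV hn' c ζ (.inr i)) =
      (1 - ζ)⁻¹ * (a ⟨2 * i, e0 i⟩ ^ q + c * ζ * a ⟨2 * i + 1, e1 i⟩ ^ q) := by
    intro a i
    simp only [stdV, Sum.elim_inr, map_add, map_smul, hcomp, smul_eq_mul]
    ring
  have hq0 : (0 : F) ^ q = 0 := zero_pow (by omega)
  refine ⟨{ v := stdV hn' c ζ
            z := fun j => if (j : ℕ) = 2 * (K + 2) then 1 else 0
            pair := ?_
            vz := ?_
            span := ?_ }⟩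
  · intro p r
    have hsep : ∀ i j : Fin (K + 2), i ≠ j → (2 * (i : ℕ) ≠ 2 * j ∧ 2 * (i : ℕ) ≠ 2 * j + 1 ∧
        2 * (i : ℕ) + 1 ≠ 2 * j ∧ 2 * (i : ℕ) + 1 ≠ 2 * j + 1) := fun i j h => by
      have : (i : ℕ) ≠ j := fun h' => h (Fin.ext h')
      omega
    rcases r with j | j <;> rcases p with i | i <;> simp only [hBl, hBr, hval, Sum.elim_inl, Sum.elim_inr,
      Sum.swap_inl, Sum.swap_inr, Sum.inl.injEq, Sum.inr.injEq, reduceCtorEq, if_false]
    all_goals rcases eq_or_ne j i with rfl | hij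
    all_goals first
      | (obtain ⟨a1, a2, a3, a4⟩ := hsep j i hij
         simp only [if_neg a1, if_neg a2, if_neg a3, if_neg a4, if_neg hij, hq0, mul_zero, add_zero]; done)
      | (simp only [if_pos, Nat.succ_ne_self, if_false, one_pow, mul_pow, hθ, hζi]
         first
           | linear_combination hcq
           | linear_combination ((1 - ζ⁻¹)⁻¹ * ζ⁻¹) * hcq + mul_inv_cancel₀ hζ1'
           | linear_combination ((1 - ζ)⁻¹ * ζ) * hcq + mul_inv_cancel₀ hζ1
           | linear_combination ((1 - ζ)⁻¹ * (1 - ζ⁻¹)⁻¹) * hcq +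
              ((1 - ζ)⁻¹ * (1 - ζ⁻¹)⁻¹ * (c * c ^ q)) * mul_inv_cancel₀ hζ0)
  · intro p
    have hz : ∀ a : Fin n → F, (∀ j : Fin n, (j : ℕ) = 2 * (K + 2) → a j = 0) →
        hB hF n a (fun j : Fin n => if (j : ℕ) = 2 * (K + 2) then (1 : F) else 0) = 0 := fun a ha => by
      rw [hB_apply, Cfsg.hermForm]
      refine Finset.sum_eq_zero fun j _ => ?_
      by_cases hj : (j : ℕ) = 2 * (K + 2)
      · simp [hj, ha j hj, hq0]
      · simp [hj]
    refine hz _ fun j hj => ?_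
    rw [hval]
    rcases p with i | i <;> have := i.isLt <;> simp only [Sum.elim_inl, Sum.elim_inr] <;>
      rw [if_neg (by omega), if_neg (by omega)]
  · intro x hx
    refine ⟨if h : 2 * (K + 2) < n then x ⟨2 * (K + 2), h⟩ else 0, funext fun j => ?_⟩
    rw [Pi.smul_apply, smul_eq_mul]
    by_cases hj : (j : ℕ) = 2 * (K + 2)
    · simp only [if_pos hj, mul_one, dif_pos (hj ▸ j.isLt : 2 * (K + 2) < n)]
      exact congrArg x (Fin.ext hj)
    simp only [if_neg hj, mul_zero]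
    have hlt : (j : ℕ) < 2 * (K + 2) := by have := j.isLt; omega
    set i : Fin (K + 2) := ⟨(j : ℕ) / 2, by omega⟩
    have h1 := (hB_isSymm hF n).isRefl _ _ (hx (.inl i))
    have h2 := (hB_isSymm hF n).isRefl _ _ (hx (.inr i))
    rw [hBl] at h1
    rw [hBr, mul_eq_zero, or_iff_right (inv_ne_zero hζ1)] at h2
    have hb : x ⟨2 * i + 1, e1 i⟩ = 0 := by
      refine eq_zero_of_pow_eq_zero (n := q) ((mul_eq_zero.1 (show (c * (1 - ζ)) * x ⟨2 * i + 1, e1 i⟩ ^ q = 0 by
        linear_combination h1 - h2)).resolve_left (mul_ne_zero hc0 hζ1))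
    have ha : x ⟨2 * i, e0 i⟩ = 0 := by
      rw [hb, hq0, mul_zero, add_zero] at h1
      exact eq_zero_of_pow_eq_zero h1
    rcases Nat.mod_two_eq_zero_or_one (j : ℕ) with e | e
    · rw [show j = ⟨2 * i, e0 i⟩ from Fin.ext (show (j : ℕ) = 2 * ((j : ℕ) / 2) by omega)]; exact ha
    · rw [show j = ⟨2 * i + 1, e1 i⟩ from Fin.ext (show (j : ℕ) = 2 * ((j : ℕ) / 2) + 1 by omega)]; exact hb

/-- Two generators of `SU_n`, `n ≥ 4`. -/
theorem two_gen_su (hF : Fintype.card F = q ^ 2) {n : ℕ} (hn : 4 ≤ n) :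
    ∃ a b : ↥(Cfsg.SU n F q), Subgroup.closure ({a, b} : Set ↥(Cfsg.SU n F q)) = ⊤ := by
  classical
  have C : Herm.Big.Space (hB hF n) := ⟨frob_ne_id hF, frob_frob hF, hB_isSymm hF n, hB_nondegenerate hF n,
    by rw [finrank_fin_fun]; exact hn⟩
  obtain ⟨K, hK⟩ : ∃ K, n = 2 * (K + 2) ∨ n = 2 * (K + 2) + 1 := ⟨n / 2 - 2, by omega⟩
  obtain ⟨ζ, ρ, hζ, hζn, hρ, hρ0, h1, h2, hQ, hcase⟩ := exists_params hF
  obtain ⟨Φ⟩ := exists_frame_std hF hK hζ hζn
  obtain ⟨a, ha, b, hb, hle⟩ := two_gen C Φ hζ hζn hρ hρ0 h1 h2 hQ hcase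
  have hran := suToLin_range (F := F) hF (n := n) (Or.inl hn)
  rw [← hran] at ha hb hle
  obtain ⟨a', rfl⟩ := ha
  obtain ⟨b', rfl⟩ := hb
  refine ⟨a', b', ?_⟩
  refine Subgroup.map_injective (suToLin_injective (F := F) (q := q) n) (le_antisymm (Subgroup.map_mono le_top) ?_)
  rw [MonoidHom.map_closure, ← MonoidHom.range_eq_map]
  exact hle.trans (le_of_eq (by simp [Set.image_pair]))

end Cfsg.Lib.Linear.TwoGen.Unitary
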