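import Cfsg.Agent.Lib.Linear.SUThree.Core
import Cfsg.Agent.Lib.Linear.UnitarySimple

/-!
# Elements of the unipotent radical of an isotropic point of a unitary space

`IsE B g u a l`: the map `g` is `x ↦ x + B u x • a + (l * B u x - B a x) • u`. `InA B P u a`: some such element with
direction `a` lies in `P`.
-/

set_option autoImplicit false
set_option linter.unusedSectionVars false

namespace Cfsg.Lib.Linear.TwoGen.Unitary

open Module Cfsg.Lib.Linear

variable {F V : Type*} [Field F] [Finite F] [AddCommGroup V] [Module F V] [FiniteDimensional F V]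
  {σ : F →+* F} {B : V →ₛₗ[σ] V →ₗ[F] F}

/-- The radical element with the given data. -/
def IsE (B : V →ₛₗ[σ] V →ₗ[F] F) (g : V ≃ₗ[F] V) (u a : V) (l : F) : Prop :=
  ∀ x, g x = x + B u x • a + (l * B u x - B a x) • u

/-- The data make an isometry. -/
def Adm (B : V →ₛₗ[σ] V →ₗ[F] F) (u a : V) (l : F) : Prop := B u u = 0 ∧ B u a = 0 ∧ l + σ l + B a a = 0

/-- The direction `a` occurs at the centre `u`. -/
def InA (B : V →ₛₗ[σ] V →ₗ[F] F) (P : Subgroup (V ≃ₗ[F] V)) (u a : V) : Prop :=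
  ∃ g ∈ P, ∃ l, Adm B u a l ∧ IsE B g u a l

/-- All multiples of the direction `a` occur at the centre `u`. -/
def Full (B : V →ₛₗ[σ] V →ₗ[F] F) (P : Subgroup (V ≃ₗ[F] V)) (u a : V) : Prop := ∀ s : F, InA B P u (s • a)

variable (C : Herm.Big.Space B)
include C

theorem exists_isE {u a : V} {l : F} (h : Adm B u a l) : ∃ g ∈ Herm.tvGroup B, IsE B g u a l := by
  obtain ⟨hu, hua, hl⟩ := h
  have hau := Herm.Big.swap_zero C hua
  let L : V →ₗ[F] V := (LinearMap.transvection (-(B a)) u).comp (LinearMap.transvection (B u) (a + (l + B a a) • u))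
  have hL : ∀ x, L x = x + B u x • a + (l * B u x - B a x) • u := fun x => by
    simp [L, LinearMap.transvection, hau]
    module
  obtain ⟨g, hg, hdet, hgL⟩ := Herm.Big.exists_equiv C L fun x y => by
    simp only [hL, map_add, map_sub, map_smul, LinearMap.map_smulₛₗ, LinearMap.add_apply, LinearMap.smul_apply,
      LinearMap.sub_apply, smul_eq_mul, map_mul, C.symm.eq, hu, hua, hau, RingHom.id_apply]
    linear_combination (B u y * B x u) * hl
  refine ⟨g, (Herm.Big.mem_tv C).2 ⟨hg, Units.ext ?_⟩, fun x => by rw [hgL, hL]⟩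
  rw [hdet, Units.val_one]
  simp [L, LinearMap.det_comp, hua, hau, hu]

omit C in
theorem isE_unique {g g' : V ≃ₗ[F] V} {u a : V} {l : F} (h : IsE B g u a l) (h' : IsE B g' u a l) : g = g' :=
  LinearEquiv.ext fun x => by rw [h, h']

theorem IsE.mul {g g' : V ≃ₗ[F] V} {u a b : V} {l m : F} (hg : IsE B g u a l) (hg' : IsE B g' u b m)
    (hu : B u u = 0) (ha : B u a = 0) (hb : B u b = 0) : IsE B (g * g') u (a + b) (l + m - B a b) := fun x => by
  rw [LinearEquiv.mul_apply, hg', hg]
  simp only [map_add, map_smul, smul_eq_mul, hu, hb, Herm.Big.swap_zero C ha, mul_zero, add_zero,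
    LinearMap.add_apply]
  module

theorem Adm.mul {u a b : V} {l m : F} (h : Adm B u a l) (h' : Adm B u b m) :
    Adm B u (a + b) (l + m - B a b) := by
  refine ⟨h.1, by rw [map_add, h.2.1, h'.2.1, add_zero], ?_⟩
  simp only [map_add, map_sub, LinearMap.add_apply, C.symm.eq]
  linear_combination h.2.2 + h'.2.2

omit C in
theorem IsE.conj {g e : V ≃ₗ[F] V} (hg : g ∈ Herm.iso B) {u a : V} {l : F} (he : IsE B e u a l) :
    IsE B (g * e * g⁻¹) (g u) (g a) l := fun x => by
  have hx : g (g⁻¹ x) = x := by rw [← LinearEquiv.mul_apply, mul_inv_cancel]; rfl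
  rw [LinearEquiv.mul_apply, LinearEquiv.mul_apply, he, map_add, map_add, map_smul, map_smul, hx,
    ← hg u (g⁻¹ x), ← hg a (g⁻¹ x), hx]

omit C in
theorem Adm.map {g : V ≃ₗ[F] V} (hg : g ∈ Herm.iso B) {u a : V} {l : F} (h : Adm B u a l) :
    Adm B (g u) (g a) l := by
  refine ⟨?_, ?_, ?_⟩
  · rw [hg, h.1]
  · rw [hg, h.2.1]
  · rw [hg, h.2.2]

variable {P : Subgroup (V ≃ₗ[F] V)}

theorem InA.add {u a b : V} (h : InA B P u a) (h' : InA B P u b) : InA B P u (a + b) := by
  obtain ⟨g, hg, l, hl, e⟩ := h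
  obtain ⟨g', hg', m, hm, e'⟩ := h'
  exact ⟨g * g', mul_mem hg hg', _, hl.mul C hm, e.mul C e' hl.1 hl.2.1 hm.2.1⟩

/-- Multiples of the centre. -/
theorem inA_self {u : V} (hu : B u u = 0) (r : F) : InA B P u (r • u) := by
  refine ⟨1, one_mem P, σ r - r, ⟨hu, by simp [hu], ?_⟩, fun x => ?_⟩
  · simp [hu, map_sub, C.invol]
  · simp only [LinearEquiv.coe_one, id_eq, LinearMap.map_smulₛₗ, LinearMap.smul_apply, smul_eq_mul]
    module

theorem inA_zero {u : V} (hu : B u u = 0) : InA B P u 0 := by simpa using inA_self (P := P) C hu 0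

theorem InA.neg {u a : V} (h : InA B P u a) : InA B P u (-a) := by
  obtain ⟨g, hg, l, hl, e⟩ := h
  have hl' : Adm B u (-a) (σ l) := ⟨hl.1, by rw [map_neg, hl.2.1, neg_zero], by
    simp only [map_neg, LinearMap.neg_apply, neg_neg, C.invol]; linear_combination hl.2.2⟩
  obtain ⟨g', -, e'⟩ := exists_isE C hl'
  have hprod : IsE B (g' * g) u (-a + a) (σ l + l - B (-a) a) := e'.mul C e hl.1 hl'.2.1 hl.2.1
  have h1 : g' * g = 1 := LinearEquiv.ext fun x => by
    rw [hprod x, neg_add_cancel, show σ l + l - B (-a) a = 0 by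
      rw [map_neg, LinearMap.neg_apply]; linear_combination hl.2.2]
    simp
  exact ⟨g', by rw [eq_inv_of_mul_eq_one_left h1]; exact inv_mem hg, σ l, hl', e'⟩

omit C in
theorem InA.map (hP : P ≤ Herm.iso B) {u a : V} (h : InA B P u a) {g : V ≃ₗ[F] V} (hg : g ∈ P) :
    InA B P (g u) (g a) := by
  obtain ⟨e, he, l, hl, h'⟩ := h
  exact ⟨g * e * g⁻¹, mul_mem (mul_mem hg he) (inv_mem hg), l, hl.map (hP hg), h'.conj (hP hg)⟩

theorem InA.centre_smul {u a : V} {r : F} (hr : r ≠ 0) (h : InA B P (r • u) a) : InA B P u (σ r • a) := by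
  obtain ⟨g, hg, l, ⟨h1, h2, h3⟩, e⟩ := h
  have hr' : σ r ≠ 0 := by simpa using hr
  simp only [map_smul, LinearMap.map_smulₛₗ, LinearMap.smul_apply, smul_eq_mul, mul_eq_zero, hr, hr', false_or] at h1 h2
  refine ⟨g, hg, σ r * r * l, ⟨h1, by rw [map_smul, h2, smul_zero], ?_⟩, fun x => ?_⟩
  · simp only [map_smul, LinearMap.map_smulₛₗ, LinearMap.smul_apply, smul_eq_mul, map_mul, C.invol]
    linear_combination (σ r * r) * h3
  · rw [e x]
    simp only [LinearMap.map_smulₛₗ, LinearMap.smul_apply, smul_eq_mul, C.invol]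
    module

/-- With a good centre, all elements of a direction. -/
theorem mem_of_inA {u a : V} (hgood : SUThree.Good B P u) (h : InA B P u a) {g : V ≃ₗ[F] V} {l : F}
    (hl : Adm B u a l) (hg : IsE B g u a l) : g ∈ P := by
  obtain ⟨g₀, hg₀, l₀, h₀, e₀⟩ := h
  have hd : (l - l₀) + σ (l - l₀) + σ (l - l₀) * (l - l₀) * B u u = 0 := by
    rw [hl.1, mul_zero, add_zero, map_sub]; linear_combination hl.2.2 - h₀.2.2
  have e1 : IsE B (Herm.qrefl u (l - l₀) hd) u 0 (l - l₀) := fun x => by simp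
  have e2 := e₀.mul C e1 h₀.1 h₀.2.1 (map_zero _)
  rw [add_zero, map_zero, sub_zero, add_sub_cancel] at e2
  rw [isE_unique hg e2]
  exact mul_mem hg₀ (hgood.2 _ hd)

/-- Exchanging the roles of an isotropic direction and the centre. -/
theorem InA.symm {u a : V} (hgood : SUThree.Good B P u) (ha : B a a = 0) {s : F} (h : InA B P u (s • a)) :
    InA B P a ((-σ s) • u) := by
  obtain ⟨-, -, l₀, h₀, -⟩ := id h
  have hua : B u (s • a) = 0 := h₀.2.1
  have hl : Adm B u (s • a) 0 := ⟨h₀.1, hua, by simp [ha]⟩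
  obtain ⟨g, -, e⟩ := exists_isE C hl
  have hgP := mem_of_inA C hgood h hl e
  rcases eq_or_ne s 0 with rfl | hs
  · simpa using inA_zero (P := P) C ha
  have hua' : B u a = 0 := by simpa [hs] using hua
  refine ⟨g, hgP, 0, ⟨ha, by simp [Herm.Big.swap_zero C hua'], by simp [h₀.1]⟩, fun x => ?_⟩
  rw [e x]
  simp only [map_neg, LinearMap.map_smulₛₗ, LinearMap.smul_apply, smul_eq_mul, map_smul, C.invol, zero_mul, zero_sub]
  module

theorem Full.symm {u a : V} (hgood : SUThree.Good B P u) (ha : B a a = 0) (h : Full B P u a) : Full B P a u :=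
  fun s => by simpa [C.invol] using (h (-σ s)).symm C hgood ha

omit C in
theorem Full.map (hP : P ≤ Herm.iso B) {u a : V} (h : Full B P u a) {g : V ≃ₗ[F] V} (hg : g ∈ P) :
    Full B P (g u) (g a) := fun s => by simpa using (h s).map hP hg

theorem Full.of_smul_centre {u a : V} {r : F} (hr : r ≠ 0) (h : Full B P (r • u) a) : Full B P u a := fun s => by
  have := (h ((σ r)⁻¹ * s)).centre_smul C hr
  rwa [smul_smul, ← mul_assoc, mul_inv_cancel₀ (by simpa using hr : σ r ≠ 0), one_mul] at this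

omit C in
theorem Full.of_smul {u a : V} {r : F} (hr : r ≠ 0) (h : Full B P u (r • a)) : Full B P u a := fun s => by
  simpa [smul_smul, hr] using h (s * r⁻¹)

/-- Three good points on a totally isotropic line give a direction. -/
theorem inA_of_good {u a : V} {c : F} (hu : SUThree.Good B P u) (ha : SUThree.Good B P a) (hua : B u a = 0)
    (hv : SUThree.Good B P (a + c • u)) {d : F} (hd : d + σ d = 0) : InA B P u ((d * σ c) • a) := by
  have hau := Herm.Big.swap_zero C hua
  have t1 := SUThree.cond_of_tr (σ := σ) hv.1 hd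
  have t2 := SUThree.cond_of_tr (σ := σ) ha.1 (c := -d) (by rw [map_neg]; linear_combination -hd)
  have t3 := SUThree.cond_of_tr (σ := σ) hu.1 (c := -(σ c * c * d))
    (by rw [map_neg, map_mul, map_mul, C.invol]; linear_combination -(σ c * c) * hd)
  refine ⟨_, mul_mem (mul_mem (hv.2 _ t1) (ha.2 _ t2)) (hu.2 _ t3), 0,
    ⟨hu.1, by rw [map_smul, hua, smul_zero], by simp [ha.1]⟩, fun x => ?_⟩
  simp only [LinearEquiv.mul_apply, Herm.qrefl_apply, map_add, map_smul, LinearMap.add_apply, LinearMap.map_smulₛₗ,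
    LinearMap.smul_apply, smul_eq_mul, hu.1, ha.1, hua, hau, map_mul, C.invol, mul_zero, add_zero, zero_mul, zero_sub]
  rw [show σ d = -d by linear_combination hd]
  module

/-- Two independent lines of multiples are everything. -/
theorem full_of_two {u a : V} {s₀ s₁ : F} (h0 : s₀ ≠ 0) (hind : σ (s₁ / s₀) ≠ s₁ / s₀)
    (hl₀ : ∀ d, d + σ d = 0 → InA B P u ((d * s₀) • a)) (hl₁ : ∀ d, d + σ d = 0 → InA B P u ((d * s₁) • a)) :
    Full B P u a := by
  obtain ⟨δ, hδ0, hδ⟩ := Herm.exists_trace_zero C.ne_id C.invol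
  intro s
  set μ := s₁ / s₀ with hμ
  set t := s / (δ * s₀) with ht
  have hne : μ - σ μ ≠ 0 := sub_ne_zero.2 (Ne.symm hind)
  set q' := (t - σ t) / (μ - σ μ) with hq'
  have hq : σ q' = q' := by
    rw [hq', map_div₀, map_sub, map_sub, C.invol, C.invol, ← neg_sub t (σ t), ← neg_sub μ (σ μ), neg_div_neg_eq]
  have hp : σ (t - μ * q') = t - μ * q' := by
    rw [map_sub, map_mul, hq, hq']
    field_simp
    ring
  have hs : s • a = (δ * (t - μ * q') * s₀) • a + (δ * q' * s₁) • a := by
    rw [← add_smul]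
    congr 1
    have e2 : μ * s₀ = s₁ := by rw [hμ]; field_simp
    have e1 : t * (δ * s₀) = s := by rw [ht]; field_simp
    linear_combination (δ * q') * e2 - e1
  rw [hs]
  exact (hl₀ _ (by rw [map_mul, hp]; linear_combination (t - μ * q') * hδ)).add C
    (hl₁ _ (by rw [map_mul, hq]; linear_combination q' * hδ))

end Cfsg.Lib.Linear.TwoGen.Unitary
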